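import Mathlib
import Cfsg.Agent.LThreeCo1.Rel
import Cfsg.Agent.KFacts.SuzOut
import Cfsg.Agent.Lib.GenFitting
import Cfsg.Agent.CoOneType.CoW
import Cfsg.Agent.FastGrp
import Cfsg.Agent.Prune
set_option linter.all false
prune_inst 0x7ffefffbeff8bfffffff7e7ffffddffffffdffffffdffffbfffdffffffff6b7ffff5fbaffffffafffff7f2b6b2fa7bf3fffffeffeffffd7ffffdfff47fffffdfffffbfaf5dffb8be1ffe7ffffbffffffffffffffffffffffffffffffffffffffffffffffffff
open scoped Cfsg.Agent.FastGrp

-- merged: Cfsg.Agent.LThreeCo1Suz.NoTrans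
section

/-!
# A criterion for `L = Γ / E` (helper52)

Let `E` be a central subgroup of odd order of the finite group `Γ`, `L` a nonabelian simple characteristic subgroup of
`X = Γ / E` with trivial centralizer whose inner automorphisms have index at most 2, `θ` an automorphism of `Γ`
inverting `E`. If an element `x ≠ 1` of `E` lies in every normal subgroup `D` of `Γ` containing all `[g, y]` with `y` of
odd order, then `L = X`: otherwise `X = Aut L`, `θ` acts on `X` as the conjugation by some `a`, so `θ` agrees with the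
conjugation by a preimage of `a` on `D = [L^, L^]`, which contains `x`.
-/

set_option autoImplicit false

namespace Cfsg.Agent.LThreeCo1Suz.NoTrans

open Subgroup
open scoped commutatorElement

/-- The index of the inner automorphisms transports. -/
theorem index_congr {A B : Type*} [Group A] [Group B] (e : A ≃* B) :
    (MulAut.conj : A →* MulAut A).range.index = (MulAut.conj : B →* MulAut B).range.index := by
  have h1 : (MulAut.conj : A →* MulAut A).range.map (MulAut.congr e).toMonoidHom =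
      (MulAut.conj : B →* MulAut B).range := by
    ext f
    constructor
    · rintro ⟨_, ⟨a, rfl⟩, rfl⟩
      refine ⟨e a, ?_⟩
      ext b
      show e a * b * (e a)⁻¹ = e (a * e.symm b * a⁻¹)
      rw [map_mul, map_mul, map_inv, e.apply_symm_apply]
    · rintro ⟨b, rfl⟩
      refine ⟨MulAut.conj (e.symm b), ⟨_, rfl⟩, ?_⟩
      ext c
      show e (e.symm b * e.symm c * (e.symm b)⁻¹) = b * c * b⁻¹
      rw [map_mul, map_mul, map_inv, e.apply_symm_apply, e.apply_symm_apply]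
  rw [← h1]
  exact (Subgroup.index_map_equiv _ (MulAut.congr e)).symm

/-- A simple nonabelian subgroup is perfect. -/
theorem perfect {X : Type*} [Group X] {L : Subgroup X} (hs : IsSimpleGroup ↥L) (hnc : ¬ IsMulCommutative ↥L) :
    ⁅L, L⁆ = L := by
  rw [← Subgroup.map_subtype_commutator]
  rcases hs.eq_bot_or_eq_top_of_normal (commutator ↥L) inferInstance with h | h
  · exfalso
    apply hnc
    constructor
    constructor
    intro a b
    have h1 : ⁅a, b⁆ ∈ commutator ↥L := Subgroup.commutator_mem_commutator (Subgroup.mem_top a) (Subgroup.mem_top b)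
    rw [h, Subgroup.mem_bot, commutatorElement_eq_one_iff_mul_comm] at h1
    exact h1
  · rw [h, ← MonoidHom.range_eq_map, Subgroup.range_subtype]

variable {Γ : Type*} [Group Γ] {E : Subgroup Γ} [E.Normal]

/-- **The criterion.** -/
theorem top_of (hE : ∀ e ∈ E, ∀ g : Γ, g * e = e * g) (hodd : Odd (Nat.card E)) (θ : Γ ≃* Γ)
    (hθ : ∀ e ∈ E, θ e = e⁻¹) {L : Subgroup (Γ ⧸ E)} (hL : L.Characteristic) (hs : IsSimpleGroup ↥L)
    (hnc : ¬ IsMulCommutative ↥L) (hc : centralizer (L : Set (Γ ⧸ E)) = ⊥)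
    (hout : (MulAut.conj : ↥L →* MulAut ↥L).range.index = 1 ∨ (MulAut.conj : ↥L →* MulAut ↥L).range.index = 2)
    {x : Γ} (hx : x ∈ E) (hx1 : x ≠ 1)
    (hcomm : ∀ D : Subgroup Γ, D.Normal → (∀ y g : Γ, Odd (orderOf y) → g * y * g⁻¹ * y⁻¹ ∈ D) → x ∈ D) :
    L = ⊤ := by
  by_contra hne
  have hLn : L.Normal := inferInstance
  -- the index
  let c : (Γ ⧸ E) →* MulAut ↥L := MulAut.conjNormal
  have hcval : ∀ (g : Γ ⧸ E) (l : ↥L), ((c g l : ↥L) : Γ ⧸ E) = g * l * g⁻¹ := fun g l => MulAut.conjNormal_apply g l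
  have h1 : (MulAut.conj : ↥L →* MulAut ↥L).range.comap c = L := by
    ext g
    constructor
    · rintro ⟨l, hl⟩
      have h2 : g⁻¹ * (l : Γ ⧸ E) ∈ centralizer (L : Set (Γ ⧸ E)) := by
        rw [Subgroup.mem_centralizer_iff]
        intro m hm
        have h3 : (l : Γ ⧸ E) * m * (l : Γ ⧸ E)⁻¹ = g * m * g⁻¹ := by
          have h4 := congrArg (fun f : MulAut ↥L => ((f ⟨m, hm⟩ : ↥L) : Γ ⧸ E)) hl
          exact h4.trans (hcval g ⟨m, hm⟩)
        calc m * (g⁻¹ * (l : Γ ⧸ E)) = g⁻¹ * (g * m * g⁻¹) * l := by group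
          _ = g⁻¹ * ((l : Γ ⧸ E) * m * (l : Γ ⧸ E)⁻¹) * l := by rw [h3]
          _ = g⁻¹ * (l : Γ ⧸ E) * m := by group
      rw [hc, Subgroup.mem_bot, inv_mul_eq_one] at h2
      rw [h2]
      exact l.2
    · intro hg
      refine ⟨⟨g, hg⟩, ?_⟩
      apply MulEquiv.ext
      intro m
      apply Subtype.ext
      rw [hcval]
      rfl
  have h2 : L.index * c.range.index = (MulAut.conj : ↥L →* MulAut ↥L).range.index := by
    have h3 := Subgroup.index_comap (MulAut.conj : ↥L →* MulAut ↥L).range c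
    rw [h1] at h3
    rw [h3]
    apply Subgroup.relIndex_mul_index
    rintro _ ⟨l, rfl⟩
    refine ⟨(l : Γ ⧸ E), ?_⟩
    apply MulEquiv.ext
    intro m
    apply Subtype.ext
    rw [hcval]
    rfl
  have h3 : L.index ≠ 1 := fun h => hne (Subgroup.index_eq_one.1 h)
  have h4 : L.index = 2 ∧ c.range.index = 1 := by
    have h5 : L.index ∣ 2 := by
      rcases hout with h | h
      · rw [h] at h2; rw [Nat.eq_one_of_mul_eq_one_right h2]; exact one_dvd _
      · rw [← h, ← h2]; exact Dvd.intro _ rfl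
    have h6 : L.index = 2 := by
      rcases (Nat.dvd_prime Nat.prime_two).1 h5 with h | h
      · exact absurd h h3
      · exact h
    refine ⟨h6, ?_⟩
    rw [h6] at h2
    omega
  have h5 : ∀ f : MulAut ↥L, ∃ a, c a = f := fun f => by
    have h6 : f ∈ c.range := by rw [Subgroup.index_eq_one.1 h4.2]; exact Subgroup.mem_top _
    exact h6
  -- the automorphism of `L` induced by `θ`
  have hEθ : E.map θ.toMonoidHom = E := by
    apply le_antisymm
    · rintro _ ⟨e, he, rfl⟩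
      show θ e ∈ E
      rw [hθ e he]; exact E.inv_mem he
    · intro e he
      refine ⟨e⁻¹, E.inv_mem he, ?_⟩
      show θ e⁻¹ = e
      rw [hθ _ (E.inv_mem he), inv_inv]
  let φ : (Γ ⧸ E) ≃* (Γ ⧸ E) := QuotientGroup.congr E E θ hEθ
  have hφ : ∀ g : Γ, φ (QuotientGroup.mk' E g) = QuotientGroup.mk' E (θ g) := fun g => rfl
  have hLφ : L.map φ.toMonoidHom = L := Subgroup.characteristic_iff_map_eq.1 hL φ
  let φL : MulAut ↥L := (φ.subgroupMap L).trans (MulEquiv.subgroupCongr hLφ)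
  have hφL : ∀ l : ↥L, ((φL l : ↥L) : Γ ⧸ E) = φ l := fun l => rfl
  obtain ⟨a, ha⟩ := h5 φL
  obtain ⟨a, rfl⟩ := QuotientGroup.mk'_surjective E a
  have h6 : ∀ g : Γ, QuotientGroup.mk' E g ∈ L → ∃ e ∈ E, θ g = a * g * a⁻¹ * e := by
    intro g hg
    have h7 : QuotientGroup.mk' E (θ g) = QuotientGroup.mk' E (a * g * a⁻¹) := by
      rw [← hφ]
      have h8 := congrArg (fun f : MulAut ↥L => ((f ⟨_, hg⟩ : ↥L) : Γ ⧸ E)) ha
      rw [map_mul, map_mul, map_inv]
      exact ((hcval _ _).symm.trans h8).symm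
    refine ⟨(a * g * a⁻¹)⁻¹ * θ g, QuotientGroup.eq.1 h7.symm, ?_⟩
    rw [mul_inv_cancel_left]
  -- `D`
  set Lh := L.comap (QuotientGroup.mk' E) with hLh
  have hLhn : Lh.Normal := hLn.comap _
  have h7 : ∀ d ∈ ⁅Lh, Lh⁆, θ d = a * d * a⁻¹ := by
    have h8 : ⁅Lh, Lh⁆ ≤ (θ.toMonoidHom.eqLocus (MulAut.conj a).toMonoidHom) := by
      rw [Subgroup.commutator_le]
      intro g hg k hk
      show θ ⁅g, k⁆ = a * ⁅g, k⁆ * a⁻¹
      obtain ⟨e, he, h9⟩ := h6 g hg
      obtain ⟨f, hf, h10⟩ := h6 k hk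
      rw [map_commutatorElement, h9, h10, commutatorElement_def, commutatorElement_def]
      have h11 := hE e he
      have h12 := hE f hf
      calc a * g * a⁻¹ * e * (a * k * a⁻¹ * f) * (a * g * a⁻¹ * e)⁻¹ * (a * k * a⁻¹ * f)⁻¹
          = a * g * a⁻¹ * (e * (a * k * a⁻¹) * e⁻¹) * ((e * f * e⁻¹) * (a * g * a⁻¹)⁻¹ * f⁻¹) * (a * k * a⁻¹)⁻¹ := by
            rw [← h11 (a * k * a⁻¹), mul_inv_rev (a * g * a⁻¹) e, mul_inv_rev (a * k * a⁻¹) f]
            have h13 : f * e⁻¹ = e⁻¹ * f := by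
              rw [eq_comm]
              exact h12 e⁻¹
            calc a * g * a⁻¹ * e * (a * k * a⁻¹ * f) * (e⁻¹ * (a * g * a⁻¹)⁻¹) * (f⁻¹ * (a * k * a⁻¹)⁻¹)
                = a * g * a⁻¹ * (e * (a * k * a⁻¹)) * (f * e⁻¹) * (a * g * a⁻¹)⁻¹ * f⁻¹ * (a * k * a⁻¹)⁻¹ := by group
              _ = a * g * a⁻¹ * ((a * k * a⁻¹) * e) * (e⁻¹ * f) * (a * g * a⁻¹)⁻¹ * f⁻¹ * (a * k * a⁻¹)⁻¹ := by
                  rw [h13, ← h11 (a * k * a⁻¹)]
              _ = _ := by
                  have h14 : e * f * e⁻¹ = f := by rw [h12 e]; group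
                  rw [h14]
                  group
        _ = a * (g * k * g⁻¹ * k⁻¹) * a⁻¹ := by
            have h14 : e * f * e⁻¹ = f := by rw [h12 e]; group
            have h15 : e * (a * k * a⁻¹) * e⁻¹ = a * k * a⁻¹ := by rw [← h11]; group
            have h16 : f * (a * g * a⁻¹)⁻¹ * f⁻¹ = (a * g * a⁻¹)⁻¹ := by rw [← h12]; group
            rw [h14, h15, h16]
            group
    intro d hd
    exact h8 hd
  have h8 : x ∈ ⁅Lh, Lh⁆ := by
    apply hcomm _ inferInstance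
    intro y g hy
    -- `y ∈ L^`
    have h9 : Lh.index = 2 := by
      rw [hLh, Subgroup.index_comap_of_surjective _ (QuotientGroup.mk'_surjective E)]
      exact h4.1
    have h10 : y ∈ Lh := by
      obtain ⟨k, hk⟩ := hy
      have h11 : y ^ (2 * (k + 1)) = y := by
        rw [show 2 * (k + 1) = orderOf y + 1 by omega, pow_succ, pow_orderOf_eq_one, one_mul]
      rw [← h11, pow_mul]
      exact Lh.pow_mem (Subgroup.sq_mem_of_index_two h9 y) _
    have h11 : QuotientGroup.mk' E y ∈ (⁅Lh, Lh⁆).map (QuotientGroup.mk' E) := by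
      rw [Subgroup.map_commutator, hLh,
        Subgroup.map_comap_eq_self_of_surjective (QuotientGroup.mk'_surjective E), perfect hs hnc]
      exact h10
    obtain ⟨d, hd, hdy⟩ := h11
    have h12 : d⁻¹ * y ∈ E := QuotientGroup.eq.1 hdy
    set e := d⁻¹ * y with he
    have h13 : y = d * e := by rw [he]; group
    have h14 := hE e h12
    have h15 : g * y * g⁻¹ * y⁻¹ = g * d * g⁻¹ * d⁻¹ := by
      rw [h13, mul_inv_rev]
      calc g * (d * e) * g⁻¹ * (e⁻¹ * d⁻¹) = g * d * (e * g⁻¹) * e⁻¹ * d⁻¹ := by group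
        _ = g * d * (g⁻¹ * e) * e⁻¹ * d⁻¹ := by rw [h14]
        _ = _ := by group
    rw [h15]
    exact Subgroup.mul_mem _ ((inferInstance : (⁅Lh, Lh⁆).Normal).conj_mem d hd g) (Subgroup.inv_mem _ hd)
  -- the contradiction
  have h9 : x⁻¹ = x := by
    rw [← hθ x hx, h7 x h8, hE x hx a, mul_inv_cancel_right]
  have h10 : orderOf x ∣ 2 := orderOf_dvd_of_pow_eq_one (by rw [pow_two]; nth_rewrite 1 [← h9]; exact inv_mul_cancel x)
  have h11 : orderOf x ∣ Nat.card E := by
    have := orderOf_dvd_natCard (⟨x, hx⟩ : E)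
    rwa [Subgroup.orderOf_mk] at this
  rcases (Nat.dvd_prime Nat.prime_two).1 h10 with h | h
  · exact hx1 (orderOf_eq_one_iff.1 h)
  · rw [h] at h11
    exact (Nat.not_even_iff_odd.2 hodd) (even_iff_two_dvd.2 h11)

end Cfsg.Agent.LThreeCo1Suz.NoTrans

end

-- merged: Cfsg.Agent.LThreeCo1Suz.Full
section

/-!
# `F*(X) = X` for `X = C(s) / ⟨s⟩`, `s = pr (e 1)` (helper52)

`top`: if `F*(X)` is a simple group with trivial centralizer isomorphic to `Suz`, then `F*(X) = X`. `isoSuz`: then `X` is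
isomorphic to `Suz`.
-/

set_option autoImplicit false

namespace Cfsg.Agent.LThreeCo1Suz.Full

open Cfsg Cfsg.Agent.LThreeCo1.Ev Cfsg.Agent.LThreeCo1.Rel
open Cfsg.Spor (Co1)
open Subgroup (centralizer zpowers mem_centralizer_singleton_iff)

/-! ### The automorphism -/

section theta

variable {H : Type*} [Group H] {s t : H}

theorem conj_mem (h : t * s * t⁻¹ = s⁻¹) {g : H} (hg : g * s = s * g) : (t * g * t⁻¹) * s = s * (t * g * t⁻¹) := by
  have h1 : t * g * t⁻¹ * (t * s * t⁻¹) = t * s * t⁻¹ * (t * g * t⁻¹) := by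
    calc t * g * t⁻¹ * (t * s * t⁻¹) = t * (g * s) * t⁻¹ := by group
      _ = t * (s * g) * t⁻¹ := by rw [hg]
      _ = _ := by group
  rw [h] at h1
  have h2 : Commute (t * g * t⁻¹) s⁻¹ := h1
  exact (Commute.inv_right_iff.1 h2)

theorem inv_of (h : t * s * t⁻¹ = s⁻¹) : t⁻¹ * s * t⁻¹⁻¹ = s⁻¹ := by
  have h1 : s = t⁻¹ * s⁻¹ * t := by rw [← h]; group
  calc t⁻¹ * s * t⁻¹⁻¹ = (t⁻¹ * s⁻¹ * t)⁻¹ := by group
    _ = s⁻¹ := by rw [← h1]

/-- conjugation by `t` on the centralizer of `s` -/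
def theta (h : t * s * t⁻¹ = s⁻¹) : ↥(centralizer ({s} : Set H)) ≃* ↥(centralizer ({s} : Set H)) where
  toFun g := ⟨t * g * t⁻¹, mem_centralizer_singleton_iff.2 (conj_mem h (mem_centralizer_singleton_iff.1 g.2))⟩
  invFun g := ⟨t⁻¹ * g * t⁻¹⁻¹,
    mem_centralizer_singleton_iff.2 (conj_mem (inv_of h) (mem_centralizer_singleton_iff.1 g.2))⟩
  left_inv g := Subtype.ext (by show t⁻¹ * (t * (g : H) * t⁻¹) * t⁻¹⁻¹ = g; group)
  right_inv g := Subtype.ext (by show t * (t⁻¹ * (g : H) * t⁻¹⁻¹) * t⁻¹ = g; group)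
  map_mul' g k := Subtype.ext (by show t * ((g : H) * k) * t⁻¹ = t * g * t⁻¹ * (t * k * t⁻¹); group)

theorem theta_val (h : t * s * t⁻¹ = s⁻¹) (g : ↥(centralizer ({s} : Set H))) :
    ((theta h g : ↥(centralizer ({s} : Set H))) : H) = t * g * t⁻¹ := rfl

end theta

/-! ### The commutators -/

/-- `a1` lies in every normal subgroup containing the commutators `[g, y]`, `y` of order 1 or 3. -/
theorem mem_of_rels {K : Type*} [Group K] (D : Subgroup K) [D.Normal] (a : ℕ → K)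
    (hD : ∀ y g : K, Odd (orderOf y) → g * y * g⁻¹ * y⁻¹ ∈ D) (h3 : ∀ i, 1 ≤ i → i ≤ 6 → a i * a i * a i = 1)
    (r1 : a 7 * a 2 = a 3 * a 7) (r2 : a 7 * a 3 = a 4 * a 7) (r3 : a 11 * a 2 = a 4 * a 4 * a 11)
    (r4 : a 11 * a 4 = a 3 * a 3 * a 5 * a 5 * a 6 * a 11)
    (r5 : a 11 * a 3 = a 1 * a 1 * a 2 * a 4 * a 4 * a 5 * a 5 * a 6 * a 11) : a 1 ∈ D := by
  have hodd : ∀ i, 1 ≤ i → i ≤ 6 → Odd (orderOf (a i)) := by
    intro i hi hi'
    have h4 : orderOf (a i) ∣ 3 := orderOf_dvd_of_pow_eq_one (by rw [pow_succ, pow_two]; exact h3 i hi hi')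
    rcases (Nat.dvd_prime Nat.prime_three).1 h4 with h | h
    · rw [h]; exact odd_one
    · rw [h]; decide
  let q : K →* K ⧸ D := QuotientGroup.mk' D
  have hc : ∀ g i, 1 ≤ i → i ≤ 6 → q g * q (a i) = q (a i) * q g := by
    intro g i hi hi'
    have h1 : q (g * a i * g⁻¹ * (a i)⁻¹) = 1 := (QuotientGroup.eq_one_iff _).2 (hD (a i) g (hodd i hi hi'))
    rw [map_mul, map_mul, map_mul, map_inv, map_inv, mul_inv_eq_one] at h1
    exact mul_inv_eq_iff_eq_mul.1 h1
  have s1 : q (a 2) = q (a 3) := by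
    have h1 := congrArg q r1
    rw [map_mul, map_mul, hc _ 2 (by norm_num) (by norm_num)] at h1
    exact mul_right_cancel h1
  have s2 : q (a 3) = q (a 4) := by
    have h1 := congrArg q r2
    rw [map_mul, map_mul, hc _ 3 (by norm_num) (by norm_num)] at h1
    exact mul_right_cancel h1
  have s3 : q (a 2) = q (a 4) * q (a 4) := by
    have h1 := congrArg q r3
    rw [map_mul, map_mul, map_mul, hc _ 2 (by norm_num) (by norm_num)] at h1
    exact mul_right_cancel h1
  have s4 : q (a 4) = q (a 3) * q (a 3) * q (a 5) * q (a 5) * q (a 6) := by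
    have h1 := congrArg q r4
    simp only [map_mul] at h1
    rw [hc _ 4 (by norm_num) (by norm_num)] at h1
    exact mul_right_cancel h1
  have s5 : q (a 3) = q (a 1) * q (a 1) * q (a 2) * q (a 4) * q (a 4) * q (a 5) * q (a 5) * q (a 6) := by
    have h1 := congrArg q r5
    simp only [map_mul] at h1
    rw [hc _ 3 (by norm_num) (by norm_num)] at h1
    exact mul_right_cancel h1
  have e4 : q (a 4) = 1 := by
    rw [s1, s2] at s3
    exact (mul_eq_left.1 s3.symm)
  have e3 : q (a 3) = 1 := s2.trans e4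
  have e2 : q (a 2) = 1 := s1.trans e3
  rw [e4, e3, one_mul, one_mul] at s4
  rw [e2, e3, e4, mul_one, mul_one, mul_one, mul_assoc (q (a 1) * q (a 1)), mul_assoc (q (a 1) * q (a 1)), ← s4,
    mul_one] at s5
  have h6 := congrArg q (h3 1 (by norm_num) (by norm_num))
  rw [map_mul, map_mul, ← s5, one_mul, map_one] at h6
  exact (QuotientGroup.eq_one_iff _).1 h6

/-! ### The letters -/

/-- the image of a letter in `Co1` -/
noncomputable def p (i : ℕ) : Co1 := QuotientGroup.mk' (Subgroup.center Co0) (e i)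

theorem p_prod {w w' : List ℕ} (h : eqB M w w' = true) : (w.map p).prod = (w'.map p).prod := by
  have h1 := congrArg (QuotientGroup.mk' (Subgroup.center Co0)) (eq_of_eqB rep h)
  rw [map_list_prod, map_list_prod, List.map_map, List.map_map] at h1
  exact h1

theorem k_comm1 : (eqB M [2, 1] [1, 2] && eqB M [3, 1] [1, 3] && eqB M [4, 1] [1, 4] && eqB M [5, 1] [1, 5] &&
    eqB M [6, 1] [1, 6] && eqB M [7, 1] [1, 7] && eqB M [11, 1] [1, 11]) = true := by (delta Cfsg.Agent.LThreeCo1.Ev.eqB; rewrite [Cfsg.Agent.CoOneType.CoW.of_eq Cfsg.Agent.LThreeCo1.Ev.foldZ_eq]; decide +kernel)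

theorem k_cubes : (eqB M [1, 1, 1] [] && eqB M [2, 2, 2] [] && eqB M [3, 3, 3] [] && eqB M [4, 4, 4] [] &&
    eqB M [5, 5, 5] [] && eqB M [6, 6, 6] []) = true := by (delta Cfsg.Agent.LThreeCo1.Ev.eqB; rewrite [Cfsg.Agent.CoOneType.CoW.of_eq Cfsg.Agent.LThreeCo1.Ev.foldZ_eq]; decide +kernel)

theorem k_rels : (eqB M [7, 2] [3, 7] && eqB M [7, 3] [4, 7] && eqB M [11, 2] [4, 4, 11] &&
    eqB M [11, 4] [3, 3, 5, 5, 6, 11] && eqB M [11, 3] [1, 1, 2, 4, 4, 5, 5, 6, 11] &&
    eqB M [10, 1] [1, 1, 10]) = true := by (delta Cfsg.Agent.LThreeCo1.Ev.eqB; rewrite [Cfsg.Agent.CoOneType.CoW.of_eq Cfsg.Agent.LThreeCo1.Ev.foldZ_eq]; decide +kernel)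

theorem p_comm {i : ℕ} (h : eqB M [i, 1] [1, i] = true) : p i * p 1 = p 1 * p i := by
  have := p_prod h
  simpa using this

/-- The letters used, as elements of the centralizer of `p 1`. -/
noncomputable def el (i : ℕ) : ↥(centralizer ({p 1} : Set Co1)) :=
  open Classical in if h : p i * p 1 = p 1 * p i then ⟨p i, mem_centralizer_singleton_iff.2 h⟩ else 1

theorem el_val {i : ℕ} (h : p i * p 1 = p 1 * p i) : (el i : Co1) = p i := by
  unfold el; rw [dif_pos h]

theorem comms : (p 2 * p 1 = p 1 * p 2 ∧ p 3 * p 1 = p 1 * p 3 ∧ p 4 * p 1 = p 1 * p 4 ∧ p 5 * p 1 = p 1 * p 5) ∧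
    p 6 * p 1 = p 1 * p 6 ∧ p 7 * p 1 = p 1 * p 7 ∧ p 11 * p 1 = p 1 * p 11 := by
  have h := k_comm1
  simp only [Bool.and_eq_true] at h
  obtain ⟨⟨⟨⟨⟨⟨h2, h3⟩, h4⟩, h5⟩, h6⟩, h7⟩, h11⟩ := h
  exact ⟨⟨p_comm h2, p_comm h3, p_comm h4, p_comm h5⟩, p_comm h6, p_comm h7, p_comm h11⟩

theorem t_inv : p 10 * p 1 * (p 10)⁻¹ = (p 1)⁻¹ := by
  have h := k_rels
  have h' := k_cubes
  simp only [Bool.and_eq_true] at h h'
  have h1 := p_prod h.2
  have h2 := p_prod h'.1.1.1.1.1
  simp only [List.map_cons, List.map_nil, List.prod_cons, List.prod_nil, mul_one] at h1 h2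
  rw [mul_inv_eq_iff_eq_mul, h1, ← mul_assoc]
  congr 1
  exact eq_inv_of_mul_eq_one_left (by rw [mul_assoc]; exact h2)

theorem k_ne : neB' M [1] [] = true := by (delta Cfsg.Agent.LThreeCo1.Ev.neB'; rewrite [Cfsg.Agent.CoOneType.CoW.of_eq Cfsg.Agent.LThreeCo1.Ev.foldZ_eq]; decide +kernel)

theorem p_ne : p 1 ≠ 1 := by
  intro h
  have h1 : e 1 ∈ Subgroup.center Co0 := (QuotientGroup.eq_one_iff _).1 h
  have h2 := Subgroup.mem_center_iff.1 h1 (e 10)
  have h' := k_rels
  simp only [Bool.and_eq_true] at h'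
  have h3 := eq_of_eqB rep h'.2
  have h4 := ne_of_neB' rep k_ne
  simp only [List.map_cons, List.map_nil, List.prod_cons, List.prod_nil, mul_one] at h3 h4
  rw [h2] at h3
  exact h4 (mul_eq_right.1 (mul_left_cancel h3).symm)

/-- `p 1` lies in every normal subgroup containing the commutators `[g, y]`, `y` of odd order. -/
theorem one_mem (D : Subgroup ↥(centralizer ({p 1} : Set Co1))) (hDn : D.Normal)
    (hD : ∀ y g : ↥(centralizer ({p 1} : Set Co1)), Odd (orderOf y) → g * y * g⁻¹ * y⁻¹ ∈ D) : el 1 ∈ D := by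
  obtain ⟨⟨c2, c3, c4, c5⟩, c6, c7, c11⟩ := comms
  have h := k_rels
  have h' := k_cubes
  simp only [Bool.and_eq_true] at h h'
  obtain ⟨⟨⟨⟨⟨r1, r2⟩, r3⟩, r4⟩, r5⟩, -⟩ := h
  obtain ⟨⟨⟨⟨⟨q1, q2⟩, q3⟩, q4⟩, q5⟩, q6⟩ := h'
  have r1 := p_prod r1
  have r2 := p_prod r2
  have r3 := p_prod r3
  have r4 := p_prod r4
  have r5 := p_prod r5
  have q1 := p_prod q1
  have q2 := p_prod q2
  have q3 := p_prod q3
  have q4 := p_prod q4
  have q5 := p_prod q5
  have q6 := p_prod q6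
  simp only [List.map_cons, List.map_nil, List.prod_cons, List.prod_nil, mul_one, ← mul_assoc] at r1 r2 r3 r4 r5 q1 q2 q3 q4 q5 q6
  have v1 := el_val (i := 1) rfl
  have v2 := el_val c2
  have v3 := el_val c3
  have v4 := el_val c4
  have v5 := el_val c5
  have v6 := el_val c6
  have v7 := el_val c7
  have v11 := el_val c11
  apply mem_of_rels D el hD
  · intro i hi hi'
    apply Subtype.ext
    interval_cases i <;> simp only [Subgroup.coe_mul, Subgroup.coe_one, v1, v2, v3, v4, v5, v6] <;> assumption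
  all_goals
    apply Subtype.ext
    simp only [Subgroup.coe_mul, v1, v2, v3, v4, v5, v6, v7, v11]
    assumption

/-- The index of the inner automorphisms of a group isomorphic to `Suz`. -/
theorem index_of_isoSuz {A : Type*} [Group A] (h : Spor.IsoSuz A) :
    (MulAut.conj : A →* MulAut A).range.index = 1 ∨ (MulAut.conj : A →* MulAut A).range.index = 2 := by
  obtain ⟨f⟩ := h
  rw [NoTrans.index_congr f]
  exact KFacts.SuzOut.index_eq

variable {E : Subgroup ↥(centralizer ({p 1} : Set Co1))} [E.Normal]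

/-- **`F*(X) = X`.** -/
theorem top (hE : ∀ g : ↥(centralizer ({p 1} : Set Co1)), g ∈ E ↔ (g : Co1) ∈ zpowers (p 1))
    (hs : IsSimpleGroup ↥(generalizedFittingSubgroup (↥(centralizer ({p 1} : Set Co1)) ⧸ E)))
    (hnc : ¬ IsMulCommutative ↥(generalizedFittingSubgroup (↥(centralizer ({p 1} : Set Co1)) ⧸ E)))
    (hc : centralizer (generalizedFittingSubgroup (↥(centralizer ({p 1} : Set Co1)) ⧸ E) :
      Set (↥(centralizer ({p 1} : Set Co1)) ⧸ E)) = ⊥)
    (hSuz : Spor.IsoSuz ↥(generalizedFittingSubgroup (↥(centralizer ({p 1} : Set Co1)) ⧸ E))) :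
    generalizedFittingSubgroup (↥(centralizer ({p 1} : Set Co1)) ⧸ E) = ⊤ := by
  have h1 : el 1 ∈ E := (hE _).2 (by rw [el_val rfl]; exact Subgroup.mem_zpowers _)
  have hcard : Nat.card E = orderOf (p 1) := by
    rw [← Nat.card_zpowers]
    refine Nat.card_congr
      { toFun := fun g => ⟨((g : ↥(centralizer ({p 1} : Set Co1))) : Co1), (hE _).1 g.2⟩
        invFun := fun g => ⟨⟨g, ?_⟩, (hE _).2 g.2⟩
        left_inv := fun g => rfl
        right_inv := fun g => rfl }
    obtain ⟨k, hk⟩ := Subgroup.mem_zpowers_iff.1 g.2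
    rw [mem_centralizer_singleton_iff, ← hk]
    exact ((Commute.refl (p 1)).zpow_left k)
  have hord : orderOf (p 1) ∣ 3 := by
    have h' := k_cubes
    simp only [Bool.and_eq_true] at h'
    have h2 := p_prod h'.1.1.1.1.1
    simp only [List.map_cons, List.map_nil, List.prod_cons, List.prod_nil, mul_one] at h2
    exact orderOf_dvd_of_pow_eq_one (by rw [pow_succ, pow_two, mul_assoc]; exact h2)
  refine NoTrans.top_of (x := el 1) ?_ ?_ (theta t_inv) ?_ Lib.GenFitting.genFitting_characteristic hs hnc hc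
    (index_of_isoSuz hSuz) h1 ?_ one_mem
  · intro e he g
    obtain ⟨k, hk⟩ := Subgroup.mem_zpowers_iff.1 ((hE e).1 he)
    apply Subtype.ext
    show (g : Co1) * e = e * g
    rw [← hk]
    exact ((show Commute (g : Co1) (p 1) from mem_centralizer_singleton_iff.1 g.2).zpow_right k)
  · rw [hcard]
    rcases (Nat.dvd_prime Nat.prime_three).1 hord with h | h
    · rw [h]; exact odd_one
    · rw [h]; decide
  · intro e he
    obtain ⟨k, hk⟩ := Subgroup.mem_zpowers_iff.1 ((hE e).1 he)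
    apply Subtype.ext
    rw [theta_val]
    show p 10 * (e : Co1) * (p 10)⁻¹ = (e : Co1)⁻¹
    rw [← hk, ← conj_zpow, t_inv, inv_zpow]
  · intro h
    apply p_ne
    rw [← el_val (i := 1) rfl, h]
    rfl

/-- **`X` is isomorphic to `Suz`.** -/
theorem isoSuz (hE : ∀ g : ↥(centralizer ({p 1} : Set Co1)), g ∈ E ↔ (g : Co1) ∈ zpowers (p 1))
    (hs : IsSimpleGroup ↥(generalizedFittingSubgroup (↥(centralizer ({p 1} : Set Co1)) ⧸ E)))
    (hnc : ¬ IsMulCommutative ↥(generalizedFittingSubgroup (↥(centralizer ({p 1} : Set Co1)) ⧸ E)))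
    (hc : centralizer (generalizedFittingSubgroup (↥(centralizer ({p 1} : Set Co1)) ⧸ E) :
      Set (↥(centralizer ({p 1} : Set Co1)) ⧸ E)) = ⊥)
    (hSuz : Spor.IsoSuz ↥(generalizedFittingSubgroup (↥(centralizer ({p 1} : Set Co1)) ⧸ E))) :
    Spor.IsoSuz (↥(centralizer ({p 1} : Set Co1)) ⧸ E) := by
  have h := top hE hs hnc hc hSuz
  rw [h] at hSuz
  obtain ⟨f⟩ := hSuz
  exact ⟨(Subgroup.topEquiv.symm).trans f⟩

end Cfsg.Agent.LThreeCo1Suz.Full

end
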